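import Groth.Agent.GrpArtin.Descend
import Groth.Agent.NilFree.Basic
import Groth.Agent.FpqcCov27.MaxOpen
import Groth.Agent.GrpScheme.SubgroupObj

/-!
# Isomorphisms and group laws modulo a nilpotent ideal
-/

set_option autoImplicit false
set_option linter.style.haveILetI false
set_option backward.isDefEq.respectTransparency false
set_option backward.isDefEq.respectTransparency.types false
set_option synthInstance.maxHeartbeats 200000

universe u

open CategoryTheory CategoryTheory.Limits MonoidalCategory CartesianMonoidalCategory MonObj AlgebraicGeometry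
open Groth.Agent.GrpArtin (bc proj)

noncomputable section

namespace Groth.Agent.NilIso19

/-- The reduction morphism. -/
abbrev red {R : Type u} [CommRing R] (I : Ideal R) : Spec (CommRingCat.of (R ⧸ I)) ⟶ Spec (CommRingCat.of R) :=
  Spec.map (CommRingCat.ofHom (Ideal.Quotient.mk I))

lemma surjective_red {R : Type u} [CommRing R] {I : Ideal R} (hI : IsNilpotent I) : Surjective (red I) := by
  refine ⟨fun p => ?_⟩
  have hle : I ≤ p.asIdeal := by
    obtain ⟨n, hn⟩ := hI
    exact Ideal.IsPrime.le_of_pow_le (n := n) (by rw [hn]; exact bot_le)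
  have h := range_comap_of_surjective _ _ (Ideal.Quotient.mk_surjective (I := I))
  have hp : p ∈ Set.range (PrimeSpectrum.comap (Ideal.Quotient.mk I)) := by
    rw [h, Ideal.mk_ker]; exact hle
  exact hp

/-- A map to a flat algebra which is bijective modulo a nilpotent ideal is bijective. -/
theorem bijective_of_mod {R B C : Type u} [CommRing R] [CommRing B] [CommRing C] [Algebra R B] [Algebra R C]
    [Module.Flat R C] {I : Ideal R} (hI : IsNilpotent I) (φ : B →ₐ[R] C)
    (l : C →+* B ⧸ I.map (algebraMap R B)) (hl : ∀ b, l (φ b) = Ideal.Quotient.mk _ b)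
    (hsur : ∀ x : C, ∃ b : B, x - φ b ∈ I.map (algebraMap R C)) : Function.Bijective φ := by
  have hs : Function.Surjective φ := by
    have h1 : (⊤ : Submodule R C) ≤ LinearMap.range φ.toLinearMap ⊔ I • (⊤ : Submodule R C) := fun x _ => by
      obtain ⟨b, hb⟩ := hsur x
      rw [Submodule.mem_sup]
      refine ⟨φ b, ⟨b, rfl⟩, x - φ b, ?_, by abel⟩
      rw [Ideal.smul_top_eq_map]
      exact hb
    obtain ⟨n, hn⟩ := hI
    have key : ∀ m, (⊤ : Submodule R C) ≤ LinearMap.range φ.toLinearMap ⊔ I ^ m • (⊤ : Submodule R C) := by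
      intro m
      induction m with
      | zero => rw [pow_zero, Ideal.one_eq_top, Submodule.top_smul]; exact le_sup_right
      | succ m ih =>
        refine h1.trans (sup_le le_sup_left ((Submodule.smul_mono le_rfl ih).trans ?_))
        rw [Submodule.smul_sup, ← Submodule.smul_assoc, smul_eq_mul, ← pow_succ']
        exact sup_le_sup_right Submodule.smul_le_right _
    have := key n
    rw [hn, Submodule.zero_eq_bot, Submodule.bot_smul, sup_bot_eq] at this
    exact fun x => this trivial
  refine ⟨NilFree.injective_of_ker_le_smul_of_flat φ.toLinearMap hs hI fun b hb => ?_, hs⟩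
  have hb0 : φ b = 0 := hb
  rw [Ideal.smul_top_eq_map]
  show b ∈ I.map (algebraMap R B)
  rw [← Ideal.Quotient.eq_zero_iff_mem, ← hl, hb0, map_zero]

variable {R : Type u} [CommRing R] {I : Ideal R}

/-- A morphism to a flat scheme which is an isomorphism modulo a nilpotent ideal is an isomorphism. -/
theorem isIso_of_red (hI : IsNilpotent I) {X Y : Over (Spec (CommRingCat.of R))} (h : X ⟶ Y) [Flat X.hom]
    [IsIso ((Over.pullback (red I)).map h)] : IsIso h := by
  have hsq := GrpArtin.Descend.isPullback_bcMap (red I) h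
  haveI : IsIso (GrpArtin.Descend.bcMap (red I) h).left :=
    inferInstanceAs (IsIso ((Over.forget _).map ((Over.pullback (red I)).map h)))
  haveI := surjective_red hI
  haveI : IsClosedImmersion (red I) := IsClosedImmersion.spec_of_surjective _ Ideal.Quotient.mk_surjective
  have hhomeo : ∀ Z : Over (Spec (CommRingCat.of R)), IsHomeomorph (proj (red I) Z) := fun Z => by
    haveI : Surjective (proj (red I) Z) := inferInstanceAs (Surjective (pullback.fst Z.hom (red I)))
    haveI : IsClosedImmersion (proj (red I) Z) := inferInstanceAs (IsClosedImmersion (pullback.fst Z.hom (red I)))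
    exact isHomeomorph_iff_isEmbedding_surjective.mpr
      ⟨(proj (red I) Z).isClosedEmbedding.isEmbedding, (proj (red I) Z).surjective⟩
  have hh : IsHomeomorph h.left := by
    have e : (h.left : X.left → Y.left) ∘ proj (red I) X =
        proj (red I) Y ∘ (GrpArtin.Descend.bcMap (red I) h).left := funext fun z => by
      simp only [Function.comp_apply, ← Scheme.Hom.comp_apply, hsq.w]
    have h1 : IsHomeomorph ((h.left : X.left → Y.left) ∘ proj (red I) X) :=
      e ▸ (hhomeo Y).comp (Scheme.Hom.homeomorph _).isHomeomorph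
    let p := (hhomeo X).homeomorph _
    have : (h.left : X.left → Y.left) = ((h.left : X.left → Y.left) ∘ proj (red I) X) ∘ p.symm := funext fun z => by
      simp only [Function.comp_apply]
      exact congrArg h.left (p.apply_symm_apply z).symm
    exact this ▸ h1.comp p.symm.isHomeomorph
  haveI : IsAffineHom h.left :=
    isAffineHom_of_isInducing h.left hh.isEmbedding.isInducing (hh.surjective.range_eq ▸ isClosed_univ)
  suffices IsIso h.left by
    haveI : IsIso ((Over.forget _).map h) := this
    exact isIso_of_reflects_iso h (Over.forget _)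
  refine (IsZariskiLocalAtTarget.iff_of_iSup_eq_top (P := MorphismProperty.isomorphisms Scheme) (f := h.left)
    (fun U : Y.left.affineOpens => U.1) (iSup_affineOpens_eq_top _)).2 fun U => ?_
  show IsIso (h.left ∣_ U.1)
  rw [isIso_morphismRestrict_iff_isIso_app _ U.2, ConcreteCategory.isIso_iff_bijective]
  let V := h.left ⁻¹ᵁ U.1
  have hV : IsAffineOpen V := U.2.preimage h.left
  let B : Type u := Γ(Y.left, U.1)
  let C : Type u := Γ(X.left, V)
  let eB : R →+* B := ((Scheme.ΓSpecIso _).inv ≫ Y.hom.appLE ⊤ U.1 le_top).hom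
  let eC : R →+* C := ((Scheme.ΓSpecIso _).inv ≫ X.hom.appLE ⊤ V le_top).hom
  letI : Algebra R B := eB.toAlgebra
  letI : Algebra R C := eC.toAlgebra
  have hcomp : Y.hom.appLE ⊤ U.1 le_top ≫ h.left.app U.1 = X.hom.appLE ⊤ V le_top := by
    rw [h.left.app_eq_appLE, Scheme.Hom.appLE_comp_appLE]
    congr 1
    exact Over.w h
  let φ : B →ₐ[R] C :=
    { (h.left.app U.1).hom with
      commutes' := fun r => congr($hcomp ((Scheme.ΓSpecIso _).inv r)) }
  haveI : Module.Flat R C := by
    have h1 : (X.hom.appLE ⊤ V le_top).hom.Flat := X.hom.flat_appLE (isAffineOpen_top _) hV le_top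
    exact RingHom.flat_algebraMap_iff.mp
      ((RingHom.Flat.of_bijective (ConcreteCategory.bijective_of_isIso (Scheme.ΓSpecIso _).inv)).comp h1)
  -- the two reductions
  let JB : Ideal B := I.map (algebraMap R B)
  let JC : Ideal C := I.map (algebraMap R C)
  let qB : CommRingCat.of B ⟶ CommRingCat.of (B ⧸ JB) := CommRingCat.ofHom (Ideal.Quotient.mk JB)
  let qC : CommRingCat.of C ⟶ CommRingCat.of (C ⧸ JC) := CommRingCat.ofHom (Ideal.Quotient.mk JC)
  let fC : CommRingCat.of (B ⧸ JB) ⟶ CommRingCat.of (C ⧸ JC) :=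
    CommRingCat.ofHom (Ideal.quotientMap JC φ.toRingHom (Ideal.map_le_iff_le_comap.1 (by
      show (I.map (algebraMap R B)).map φ.toRingHom ≤ JC
      rw [Ideal.map_map]
      exact le_of_eq (congrArg (Ideal.map · I) (RingHom.ext φ.commutes)))))
  haveI : IsOpenImmersion hV.fromSpec := IsAffineOpen.isOpenImmersion_fromSpec _
  have hWh : hV.fromSpec ≫ h.left = Spec.map (h.left.app U.1) ≫ U.2.fromSpec := by
    rw [Scheme.Hom.app_eq_appLE, U.2.SpecMap_appLE_fromSpec h.left hV]
  -- the point of `Y` modulo `I` and its lift to `X`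
  let r : Spec (CommRingCat.of (B ⧸ JB)) ⟶ Spec (CommRingCat.of (R ⧸ I)) :=
    Spec.map (CommRingCat.ofHom (Ideal.quotientMap JB (algebraMap R B) Ideal.le_comap_map))
  have hr : (Spec.map qB ≫ U.2.fromSpec) ≫ Y.hom = r ≫ red I := by
    rw [Category.assoc, ← (isAffineOpen_top _).SpecMap_appLE_fromSpec Y.hom U.2 le_top,
      IsAffineOpen.fromSpec_top, Scheme.isoSpec_Spec_inv, ← Spec.map_comp, ← Spec.map_comp, ← Spec.map_comp]
    rfl
  let y₀ : Spec (CommRingCat.of (B ⧸ JB)) ⟶ (bc (red I) Y).left := pullback.lift _ r hr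
  let x₀ := y₀ ≫ inv (GrpArtin.Descend.bcMap (red I) h).left ≫ proj (red I) X
  have hx₀ : x₀ ≫ h.left = Spec.map qB ≫ U.2.fromSpec := by
    rw [Category.assoc, Category.assoc, ← hsq.w, IsIso.inv_hom_id_assoc, pullback.lift_fst]
  have hrange : Set.range x₀ ⊆ Set.range hV.fromSpec := by
    rintro _ ⟨z, rfl⟩
    rw [hV.range_fromSpec]
    show h.left (x₀ z) ∈ U.1
    rw [← Scheme.Hom.comp_apply, hx₀, Scheme.Hom.comp_apply, ← SetLike.mem_coe, ← U.2.range_fromSpec]
    exact ⟨_, rfl⟩
  let lS := IsOpenImmersion.lift hV.fromSpec x₀ hrange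
  let l : CommRingCat.of C ⟶ CommRingCat.of (B ⧸ JB) := Spec.preimage lS
  have hl : h.left.app U.1 ≫ l = qB := by
    refine Spec.map_injective ?_
    rw [← cancel_mono U.2.fromSpec, Spec.map_comp, Category.assoc, ← hWh, Spec.map_preimage,
      IsOpenImmersion.lift_fac_assoc, hx₀]
  have hlC : l ≫ fC = qC := by
    refine Spec.map_injective ?_
    rw [← cancel_mono hV.fromSpec, Spec.map_comp, Category.assoc, Spec.map_preimage, IsOpenImmersion.lift_fac]
    have hqC : h.left.app U.1 ≫ qC = qB ≫ fC := rfl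
    have hfac : (Spec.map qC ≫ hV.fromSpec) ≫ h.left = Spec.map fC ≫ Spec.map qB ≫ U.2.fromSpec := by
      rw [Category.assoc, hWh, ← Spec.map_comp_assoc, hqC, Spec.map_comp_assoc]
    have hw : (Spec.map qC ≫ hV.fromSpec) ≫ X.hom = (Spec.map fC ≫ r) ≫ red I := by
      rw [Category.assoc (Spec.map fC), ← hr, ← Over.w h, ← Category.assoc, hfac]
      simp only [Category.assoc]
    let xC : Spec (CommRingCat.of (C ⧸ JC)) ⟶ (bc (red I) X).left := pullback.lift _ _ hw
    have hxC : xC ≫ (GrpArtin.Descend.bcMap (red I) h).left = Spec.map fC ≫ y₀ := by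
      refine pullback.hom_ext ?_ ?_
      · rw [Category.assoc, show (GrpArtin.Descend.bcMap (red I) h).left ≫ pullback.fst Y.hom (red I) =
          proj (red I) X ≫ h.left from hsq.w, pullback.lift_fst_assoc, hfac, Category.assoc, pullback.lift_fst]
      · rw [Category.assoc, show (GrpArtin.Descend.bcMap (red I) h).left ≫ pullback.snd Y.hom (red I) =
          pullback.snd X.hom (red I) from Over.w (GrpArtin.Descend.bcMap (red I) h), pullback.lift_snd,
          Category.assoc, pullback.lift_snd]
    have hxC' : xC = Spec.map fC ≫ y₀ ≫ inv (GrpArtin.Descend.bcMap (red I) h).left := by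
      rw [← cancel_mono (GrpArtin.Descend.bcMap (red I) h).left, hxC]
      simp
    simp only [x₀]
    rw [← Category.assoc y₀, ← Category.assoc (Spec.map fC), ← hxC', pullback.lift_fst]
  have := bijective_of_mod hI φ l.hom (fun b => congr($hl b)) fun x => by
    obtain ⟨b, hb⟩ := Ideal.Quotient.mk_surjective (l.hom x)
    refine ⟨b, ?_⟩
    rw [← Ideal.Quotient.eq]
    have e1 : Ideal.Quotient.mk JC x = fC.hom (l.hom x) := (congr($hlC x)).symm
    rw [e1, ← hb]
    rfl
  exact this

/-- An associative law with bijective translations is a group law. -/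
theorem exists_grpObj {S : Scheme.{u}} (X : Over S) (P : X ⊗ X ⟶ X)
    (hassoc : (P ▷ X) ≫ P = (α_ X X X).hom ≫ (X ◁ P) ≫ P)
    [IsIso (lift (fst X X) P)] [IsIso (lift P (snd X X))] [EffectiveEpi X.hom] :
    ∃ _ : GrpObj X, μ[X] = P := by
  let op : ∀ {T : Over S}, (T ⟶ X) → (T ⟶ X) → (T ⟶ X) := fun a b => lift a b ≫ P
  have hnat : ∀ {T T' : Over S} (σ : T' ⟶ T) (a b : T ⟶ X), σ ≫ op a b = op (σ ≫ a) (σ ≫ b) := fun σ a b => by
    simp only [op, comp_lift_assoc]
  have hA : ∀ {T : Over S} (a b c : T ⟶ X), op (op a b) c = op a (op b c) := fun {T} a b c => by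
    have := congrArg (lift (lift a b) c ≫ ·) hassoc
    simpa [op, lift_whiskerRight_assoc, lift_lift_associator_hom_assoc, lift_whiskerLeft_assoc] using this
  have hcl : ∀ {T : Over S} (a x x' : T ⟶ X), op a x = op a x' → x = x' := fun {T} a x x' e => by
    have h2 : lift a x ≫ lift (fst X X) P = lift a x' ≫ lift (fst X X) P :=
      CartesianMonoidalCategory.hom_ext _ _ (by simp) (by simpa [op] using e)
    simpa using (cancel_mono _).1 h2 =≫ snd X X
  have hcr : ∀ {T : Over S} (a x x' : T ⟶ X), op x a = op x' a → x = x' := fun {T} a x x' e => by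
    have h2 : lift x a ≫ lift P (snd X X) = lift x' a ≫ lift P (snd X X) :=
      CartesianMonoidalCategory.hom_ext _ _ (by simpa [op] using e) (by simp)
    simpa using (cancel_mono _).1 h2 =≫ fst X X
  -- right division
  have hdiv : ∀ {T : Over S} (a b : T ⟶ X), ∃ x, op a x = b := fun {T} a b => by
    refine ⟨lift a b ≫ inv (lift (fst X X) P) ≫ snd X X, ?_⟩
    have h1 : inv (lift (fst X X) P) ≫ fst X X = fst X X := by
      rw [IsIso.inv_comp_eq, lift_fst]
    have h2 : inv (lift (fst X X) P) ≫ P = snd X X := by rw [IsIso.inv_comp_eq, lift_snd]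
    have h3 : lift a (lift a b ≫ inv (lift (fst X X) P) ≫ snd X X) = lift a b ≫ inv (lift (fst X X) P) :=
      CartesianMonoidalCategory.hom_ext _ _ (by rw [lift_fst, Category.assoc, h1, lift_fst])
        (by rw [lift_snd, Category.assoc])
    show lift a _ ≫ P = b
    rw [h3, Category.assoc, h2, lift_snd]
  obtain ⟨e, he⟩ := hdiv (𝟙 X) (𝟙 X)
  have hle : ∀ {T : Over S} (a b : T ⟶ X), op (a ≫ e) b = b := fun {T} a b => by
    have h1 : op a (a ≫ e) = a := by simpa [hnat] using congrArg (a ≫ ·) he
    exact hcl a _ _ (by rw [← hA, h1])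
  have hre : ∀ {T : Over S} (a b : T ⟶ X), op b (a ≫ e) = b := fun {T} a b =>
    hcr (a ≫ e) _ _ (by rw [hA, hle])
  have heq : ∀ {T : Over S} (a b : T ⟶ X), a ≫ e = b ≫ e := fun {T} a b =>
    hcl a _ _ ((hre a a).trans (hre b a).symm)
  haveI : EffectiveEpi (toUnit X).left := ‹EffectiveEpi X.hom›
  obtain ⟨o, ho, -⟩ := GrpdLib.GrpOver.existsUnique_desc (toUnit X) e fun T a b _ => heq a b
  have hone : ∀ {T : Over S} (a : T ⟶ X), op (toUnit T ≫ o) a = a ∧ op a (toUnit T ≫ o) = a := fun {T} a => by
    have : toUnit T ≫ o = a ≫ e := by rw [← ho, ← Category.assoc, toUnit_unique (a ≫ toUnit X) (toUnit T)]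
    rw [this]
    exact ⟨hle a a, hre a a⟩
  obtain ⟨i, hi⟩ := hdiv (𝟙 X) (toUnit X ≫ o)
  have hi' : op i (𝟙 X) = toUnit X ≫ o :=
    hcl (𝟙 X) _ _ (by rw [← hA, hi, (hone (𝟙 X)).1, (hone (𝟙 X)).2])
  letI : MonObj X :=
    { one := o
      mul := P
      one_mul := by
        have h : o ▷ X = lift (toUnit _ ≫ o) (snd (𝟙_ (Over S)) X) := CartesianMonoidalCategory.hom_ext _ _
          (by rw [whiskerRight_fst, lift_fst, toUnit_unique (fst (𝟙_ (Over S)) X) (toUnit _)])
          (by rw [whiskerRight_snd, lift_snd])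
        rw [h, leftUnitor_hom]
        exact (hone _).1
      mul_one := by
        have h : X ◁ o = lift (fst X (𝟙_ (Over S))) (toUnit _ ≫ o) := CartesianMonoidalCategory.hom_ext _ _
          (by rw [whiskerLeft_fst, lift_fst])
          (by rw [whiskerLeft_snd, lift_snd, toUnit_unique (snd X (𝟙_ (Over S))) (toUnit _)])
        rw [h, rightUnitor_hom]
        exact (hone _).2
      mul_assoc := hassoc }
  exact ⟨{ inv := i, left_inv := hi', right_inv := hi }, rfl⟩

end Groth.Agent.NilIso19
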